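import Groth.Agent.LocImm12.ZMT
import Groth.Agent.H8Lim.FiniteApprox
import Groth.Agent.H8Lim.FinitePresentation
import Groth.Agent.H8Lim.IdealDescent
import Groth.Agent.FlatMorStrata.Extend

/-!
# Zariski's main theorem, finitely presented version

A finitely presented immersion is an open immersion into a finitely presented closed subscheme,
and a separated quasi-finite morphism of finite presentation is an open immersion followed by a
finite morphism of finite presentation.
-/

universe u

set_option autoImplicit false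
set_option backward.isDefEq.respectTransparency false

open CategoryTheory CategoryTheory.Limits AlgebraicGeometry TopologicalSpace

namespace Groth.Agent.FlatMorZMT

open FlatMorStrata in
/-- A quasi-compact lfp immersion into a quasi-compact scheme is an open immersion into a closed
subscheme cut out by a finite type ideal. -/
theorem exists_isOpenImmersion_fg_subscheme {X D : Scheme.{u}} [CompactSpace X] [CompactSpace D]
    [QuasiSeparatedSpace D]
    (g : X ⟶ D) [IsImmersion g] [QuasiCompact g] [LocallyOfFinitePresentation g] :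
    ∃ (G : D.IdealSheafData) (j : X ⟶ G.subscheme),
      (∀ V, (G.ideal V).FG) ∧ IsOpenImmersion j ∧ j ≫ G.subschemeι = g := by
  classical
  have hcov : ∀ x : X, ∃ W : D.affineOpens, g x ∈ W.1 ∧ W.1 ≤ g.coborderRange := fun x => by
    obtain ⟨W, hW, hxW, hWle⟩ := exists_isAffineOpen_mem_and_subset (x := g x)
      (U := g.coborderRange) (subset_coborder ⟨x, rfl⟩)
    exact ⟨⟨W, hW⟩, hxW, hWle⟩
  choose W hW hWle using hcov
  have hfg : ∀ x, (g.ker.ideal (W x)).FG := fun x => by
    have hcl : IsClosedImmersion (g ∣_ (W x).1) := by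
      have htop : g ⁻¹ᵁ g.coborderRange = ⊤ :=
        top_le_iff.1 fun y _ => subset_coborder ⟨y, rfl⟩
      have h1 : IsClosedImmersion (g ∣_ g.coborderRange) := by
        have e1 : g ∣_ g.coborderRange =
            (X.isoOfEq htop ≪≫ X.topIso).hom ≫ g.liftCoborder := by
          rw [← cancel_mono g.coborderRange.ι, Category.assoc, g.liftCoborder_ι, morphismRestrict_ι,
            Iso.trans_hom, Scheme.topIso_hom, Scheme.isoOfEq_hom_ι]
        rw [e1]
        infer_instance
      have h2 := IsZariskiLocalAtTarget.restrict (P := @IsClosedImmersion) h1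
        (g.coborderRange.ι ⁻¹ᵁ (W x).1)
      rw [MorphismProperty.arrow_mk_iso_iff (P := @IsClosedImmersion)
        (morphismRestrictRestrict g g.coborderRange _)] at h2
      have e2 : g.coborderRange.ι ''ᵁ (g.coborderRange.ι ⁻¹ᵁ (W x).1) = (W x).1 := by
        rw [Scheme.Hom.image_preimage_eq_opensRange_inf, Scheme.Opens.opensRange_ι, inf_eq_right]
        exact hWle x
      exact (MorphismProperty.arrow_mk_iso_iff (P := @IsClosedImmersion)
        (morphismRestrictEq g e2)).1 h2
    have : IsAffine (W x).1.toScheme := (W x).2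
    have haff : IsAffineOpen (g ⁻¹ᵁ (W x).1) := isAffine_of_isAffineHom (g ∣_ (W x).1)
    have key : ∀ (U : D.Opens), U = (W x).1 → Function.Surjective (g.app U).hom →
        Function.Surjective (g.app (W x).1).hom := by
      rintro U rfl hh
      exact hh
    have hsurj : Function.Surjective (g.app (W x).1).hom := by
      refine key _ (Scheme.Opens.ι_image_top _) ?_
      have := (g ∣_ (W x).1).app_surjective (U := ⊤) (isAffineOpen_top _)
      rw [morphismRestrict_app] at this
      intro r
      obtain ⟨a, ha⟩ := this ((X.presheaf.map (eqToHom _).op).hom r)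
      exact ⟨a, (ConcreteCategory.bijective_of_isIso (X.presheaf.map (eqToHom _).op)).1 ha⟩
    rw [Scheme.Hom.ker_apply g (W x)]
    have h := g.finitePresentation_appLE (W x).2 haff le_rfl
    rw [← Scheme.Hom.app_eq_appLE] at h
    let _ := (g.app (W x).1).hom.toAlgebra
    have : Algebra.FinitePresentation Γ(D, (W x).1) Γ(X, g ⁻¹ᵁ (W x).1) := h
    exact Algebra.FinitePresentation.ker_fG_of_surjective (Algebra.ofId _ _) hsurj
  obtain ⟨c, hc⟩ := isCompact_univ.elim_finite_subcover (fun x => (g ⁻¹ᵁ (W x).1 : Set X))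
    (fun x => (g ⁻¹ᵁ (W x).1).2) (fun x _ => Set.mem_iUnion.2 ⟨x, hW x⟩)
  obtain ⟨d, hd⟩ := isCompact_univ.elim_finite_subcover (fun V : D.affineOpens => (V.1 : Set D))
    (fun V => V.1.2) (fun x _ => by
      obtain ⟨V, hV, hxV, -⟩ := exists_isAffineOpen_mem_and_subset (x := x) (U := ⊤) (Set.mem_univ _)
      exact Set.mem_iUnion.2 ⟨⟨V, hV⟩, hxV⟩)
  have hex : ∀ s : Finset D.affineOpens, ∃ G ≤ g.ker, (∀ M ∈ s, (G.ideal M).FG) ∧
      ∀ M ∈ c.image W, G.ideal M = g.ker.ideal M := by
    intro s
    induction s using Finset.induction with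
    | empty => exact ⟨g.ker, le_rfl, by simp, fun _ _ => rfl⟩
    | @insert V s _ ih =>
      obtain ⟨G, h₁, h₂, h₃⟩ := ih
      obtain ⟨G', k₁, k₂, k₃, -⟩ := exists_step G (c.image W ∪ s) (fun M hM => by
        rcases Finset.mem_union.1 hM with hM | hM
        · obtain ⟨x, -, rfl⟩ := Finset.mem_image.1 hM
          exact h₃ (W x) hM ▸ hfg x
        · exact h₂ M hM) V
      refine ⟨G', k₁.trans h₁, fun M hM => ?_,
        fun M hM => (k₂ M (Finset.mem_union_left _ hM)).trans (h₃ M hM)⟩
      rcases Finset.mem_insert.1 hM with rfl | hM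
      · exact k₃
      · rw [k₂ M (Finset.mem_union_right _ hM)]
        exact h₂ M hM
  obtain ⟨G, hle, hGd, hGeq⟩ := hex d
  have hGfg : ∀ V, (G.ideal V).FG := fg_of_cover G (fun M : d => M.1) (top_le_iff.1 fun x _ => by
    obtain ⟨M, hM, hxM⟩ := Set.mem_iUnion₂.1 (hd (Set.mem_univ x))
    exact Opens.mem_iSup.2 ⟨⟨M, hM⟩, hxM⟩) fun M => hGd M.1 M.2
  let ι := Scheme.IdealSheafData.inclusion hle
  let j : X ⟶ G.subscheme := g.toImage ≫ ι
  have hj : j ≫ G.subschemeι = g := by
    rw [Category.assoc]
    exact (congrArg (g.toImage ≫ ·) (Scheme.IdealSheafData.inclusion_subschemeι hle)).trans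
      g.toImage_imageι
  refine ⟨G, j, hGfg, ?_, hj⟩
  -- the cover of `X`
  let U : c → X.Opens := fun x => g ⁻¹ᵁ (W x.1).1
  have hU : TopologicalSpace.IsOpenCover U := by
    refine top_le_iff.1 fun x _ => ?_
    obtain ⟨M, hM, hxM⟩ := Set.mem_iUnion₂.1 (hc (Set.mem_univ x))
    exact Opens.mem_iSup.2 ⟨⟨M, hM⟩, hxM⟩
  refine IsOpenImmersion.of_openCover_source j (X.openCoverOfIsOpenCover U hU) ?_ fun x => ?_
  · intro a b hab
    refine g.isEmbedding.injective ?_
    calc g a = G.subschemeι (j a) := by rw [← Scheme.Hom.comp_apply, hj]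
      _ = G.subschemeι (j b) := by rw [hab]
      _ = g b := by rw [← Scheme.Hom.comp_apply, hj]
  · show IsOpenImmersion ((U x).ι ≫ j)
    let f₀ := g.ker.subschemeCover.f (W x.1)
    have hr : Set.range ((U x).ι ≫ g.toImage) ⊆ Set.range f₀ := by
      rintro _ ⟨z, rfl⟩
      rw [← Scheme.Hom.coe_opensRange, Scheme.IdealSheafData.opensRange_subschemeCover_map]
      show g.imageι (g.toImage ((U x).ι z)) ∈ (W x.1).1
      rw [← Scheme.Hom.comp_apply, g.toImage_imageι]
      exact z.2
    let l := IsOpenImmersion.lift f₀ ((U x).ι ≫ g.toImage) hr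
    have hl : l ≫ f₀ = (U x).ι ≫ g.toImage := IsOpenImmersion.lift_fac _ _ _
    have : IsOpenImmersion (l ≫ f₀) := hl ▸ inferInstance
    have : IsOpenImmersion l := IsOpenImmersion.of_comp l f₀
    have e := hGeq (W x.1) (Finset.mem_image.2 ⟨x.1, x.2, rfl⟩)
    have : IsIso (Scheme.IdealSheafData.glueDataObjHom hle (W x.1)) := by
      have h1 : IsIso (CommRingCat.ofHom (Ideal.Quotient.factor (hle (W x.1)))) := by
        have : CommRingCat.ofHom (Ideal.Quotient.factor (hle (W x.1))) =
            (Ideal.quotEquivOfEq e).toCommRingCatIso.hom := by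
          refine CommRingCat.hom_ext (Ideal.Quotient.ringHom_ext ?_)
          ext r
          rfl
        rw [this]
        infer_instance
      exact inferInstanceAs (IsIso (Spec.map _))
    have : (U x).ι ≫ j = l ≫ Scheme.IdealSheafData.glueDataObjHom hle (W x.1) ≫
        G.subschemeCover.f (W x.1) := by
      rw [← Scheme.IdealSheafData.subSchemeCover_map_inclusion hle, ← Category.assoc l, hl,
        Category.assoc]
    rw [this]
    infer_instance

/-- Zariski's main theorem for finitely presented morphisms. -/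
theorem exists_openImmersion_finite_fp {X S : Scheme.{u}} (f : X ⟶ S) [CompactSpace S]
    [QuasiSeparatedSpace S] [IsSeparated f] [QuasiCompact f] [LocallyQuasiFinite f]
    [LocallyOfFinitePresentation f] :
    ∃ (T : Scheme.{u}) (j : X ⟶ T) (π : T ⟶ S), IsOpenImmersion j ∧ QuasiCompact j ∧ IsFinite π ∧
      LocallyOfFinitePresentation π ∧ j ≫ π = f := by
  obtain ⟨T, j, π, hj, hjq, hπ, hjπ⟩ := LocImm12.exists_openImmersion_finite f
  obtain ⟨I, _, _, hne, D, c, hc, hD, -, hcl, ⟨e⟩⟩ := H8Lim.exists_limit_finite_finitePresentation π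
  obtain ⟨i₀⟩ := hne
  let i : Iᵒᵖ := Opposite.op i₀
  have : IsIso e.inv.left := inferInstanceAs (IsIso ((Over.forget S).map e.inv))
  let m : T ⟶ (D.obj i).left := e.inv.left ≫ (c.π.app i).left
  have := hcl i
  have : IsClosedImmersion m := inferInstance
  have hm : m ≫ (D.obj i).hom = π := by
    rw [Category.assoc, Over.w]
    exact Over.w e.inv
  obtain ⟨hfin, hfp⟩ := hD i
  let g := j ≫ m
  have hg : g ≫ (D.obj i).hom = f := by rw [Category.assoc, hm, hjπ]
  have : LocallyOfFinitePresentation (g ≫ (D.obj i).hom) := hg.symm ▸ inferInstance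
  have : LocallyOfFinitePresentation g := H8Lim.lfp_cancel_right g (D.obj i).hom
  have : CompactSpace X := QuasiCompact.compactSpace_of_compactSpace f
  have : QuasiSeparatedSpace (D.obj i).left := quasiSeparatedSpace_of_quasiSeparated (D.obj i).hom
  have : CompactSpace (D.obj i).left := QuasiCompact.compactSpace_of_compactSpace (D.obj i).hom
  obtain ⟨G, j', hG, hj', hj'g⟩ := exists_isOpenImmersion_fg_subscheme g
  have : LocallyOfFinitePresentation G.subschemeι :=
    H8Lim.locallyOfFinitePresentation_of_ker_fg _ fun V => by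
      rw [Scheme.IdealSheafData.ker_subschemeι]; exact hG V
  have : QuasiCompact (j' ≫ G.subschemeι) := by rw [hj'g]; infer_instance
  exact ⟨G.subscheme, j', G.subschemeι ≫ (D.obj i).hom, hj', QuasiCompact.of_comp j' G.subschemeι,
    inferInstance, inferInstance, by rw [← Category.assoc, hj'g, hg]⟩

end Groth.Agent.FlatMorZMT
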